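import Cfsg.Agent.H573.U33.Conj
import Cfsg.Agent.H480.Ore.FiBThree
import Cfsg.Agent.H819.U33.Trip

/-!
# S5525, piece E1 (abstract part): the class of `x` (helper186)

* `not_comm` : if `|C(f)| ≤ 3 |C(d₁) ∩ C(d₂)|`, `f = d₁ d₂` of order 3, then `f` is not a commutator of elements of `C(f)`.
* `x_conj_of` : in the Baby Monster, `Trip u y x` implies `x ∼ y₀` as soon as `y₀` of order 3 is a cube and the elements of
  order 3 commuting with an element of order 7 are conjugate to such an `f`.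
-/

set_option autoImplicit false

namespace Cfsg.Agent.H186.U33

open Subgroup Cfsg

section abs

variable {K : Type*} [Group K]

/-- a power of `f = d₁ d₂` (of order 3) commuting with `d₁` is trivial -/
theorem pow_eq_one {f d₁ d₂ : K} (h1 : d₁ * d₁ = 1) (h2 : d₂ * d₂ = 1) (hf : f = d₁ * d₂) (h3 : f ^ 3 = 1) {k : ℤ}
    (hk : f ^ k * d₁ = d₁ * f ^ k) : f ^ k = 1 := by
  have hi1 : d₁⁻¹ = d₁ := inv_eq_of_mul_eq_one_left h1
  have hi2 : d₂⁻¹ = d₂ := inv_eq_of_mul_eq_one_left h2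
  have h4 : d₁ * f * d₁⁻¹ = f⁻¹ := by
    rw [hf, mul_inv_rev, hi1, hi2]
    calc d₁ * (d₁ * d₂) * d₁ = (d₁ * d₁) * d₂ * d₁ := by group
      _ = d₂ * d₁ := by rw [h1, one_mul]
  have h5 : d₁ * f ^ k * d₁⁻¹ = (f ^ k)⁻¹ := by rw [← conj_zpow, h4, inv_zpow]
  have h6 : f ^ k = (f ^ k)⁻¹ := by
    rw [← h5, ← hk, mul_inv_cancel_right]
  have h7 : f ^ k * f ^ k = 1 := by
    nth_rewrite 2 [h6]
    exact mul_inv_cancel _
  have h8 : (f ^ k) ^ 3 = 1 := by
    rw [← zpow_natCast, ← zpow_mul, mul_comm, zpow_mul, zpow_natCast, h3, one_zpow]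
  calc f ^ k = (f ^ k) ^ 3 * (f ^ k * f ^ k)⁻¹ := by group
    _ = 1 := by rw [h7, h8, inv_one, one_mul]

theorem not_comm [Finite K] {f d₁ d₂ : K} (h1 : d₁ * d₁ = 1) (h2 : d₂ * d₂ = 1) (hf : f = d₁ * d₂) (h3 : f ^ 3 = 1)
    (hf1 : f ≠ 1)
    (hc : Nat.card ↥(centralizer ({f} : Set K)) ≤ 3 * Nat.card ↥(centralizer ({d₁} : Set K) ⊓ centralizer ({d₂} : Set K)))
    {a b : K} (ha : a * f = f * a) (hb : b * f = f * b) (hab : a * b * a⁻¹ * b⁻¹ = f) : False := by
  classical
  let X : Subgroup K := centralizer ({d₁} : Set K) ⊓ centralizer ({d₂} : Set K)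
  have hX : ∀ c ∈ X, c * f = f * c := by
    intro c hc
    have k1 := mem_centralizer_singleton_iff.1 hc.1
    have k2 := mem_centralizer_singleton_iff.1 hc.2
    rw [hf, ← mul_assoc, k1, mul_assoc, k2, mul_assoc]
  have hX1 : ∀ k : ℤ, f ^ k ∈ X → f ^ k = 1 := fun k hk =>
    pow_eq_one h1 h2 hf h3 (mem_centralizer_singleton_iff.1 hk.1)
  -- the product map
  let φ : ↥(zpowers f) × ↥X → ↥(centralizer ({f} : Set K)) := fun p =>
    ⟨(p.1 : K) * p.2, by
      rw [mem_centralizer_singleton_iff]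
      obtain ⟨k, hk⟩ := p.1.2
      have hk' : (p.1 : K) = f ^ k := hk.symm
      rw [hk', mul_assoc, hX _ p.2.2, ← mul_assoc, ← mul_assoc, (Commute.refl f).zpow_left k]⟩
  have hinj : Function.Injective φ := by
    rintro ⟨⟨_, k, rfl⟩, c⟩ ⟨⟨_, l, rfl⟩, d⟩ h
    have h4 : f ^ k * (c : K) = f ^ l * (d : K) := congrArg Subtype.val h
    have h5 : f ^ (k - l) = (d : K) * (c : K)⁻¹ := by
      rw [zpow_sub, mul_inv_eq_iff_eq_mul]
      calc f ^ k = f ^ k * (c : K) * (c : K)⁻¹ := by rw [mul_inv_cancel_right]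
        _ = f ^ l * (d : K) * (c : K)⁻¹ := by rw [h4]
        _ = (d : K) * (c : K)⁻¹ * f ^ l := by
          have h6 : Commute ((d : K) * (c : K)⁻¹) f :=
            (show Commute (d : K) f from hX _ d.2).mul_left (show Commute (c : K) f from hX _ c.2).inv_left
          rw [mul_assoc, (h6.zpow_right l).eq]
    have h6 : f ^ (k - l) = 1 := hX1 _ (by rw [h5]; exact X.mul_mem d.2 (X.inv_mem c.2))
    have h7 : f ^ k = f ^ l := by
      rw [zpow_sub, mul_inv_eq_one] at h6
      exact h6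
    have h8 : (c : K) = d := by
      rw [h7] at h4
      exact mul_left_cancel h4
    exact Prod.ext (Subtype.ext h7) (Subtype.ext h8)
  have hf3 : Nat.card ↥(zpowers f) = 3 := by
    have : Fact (Nat.Prime 3) := ⟨Nat.prime_three⟩
    rw [Nat.card_zpowers, orderOf_eq_prime h3 hf1]
  have hcard : Nat.card ↥(centralizer ({f} : Set K)) ≤ Nat.card (↥(zpowers f) × ↥X) := by
    rw [Nat.card_prod, hf3]
    exact hc
  have hsurj : Function.Surjective φ := by
    have h4 : Nat.card (↥(zpowers f) × ↥X) ≤ Nat.card ↥(centralizer ({f} : Set K)) :=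
      Nat.card_le_card_of_injective φ hinj
    exact ((Nat.bijective_iff_injective_and_card φ).2 ⟨hinj, le_antisymm h4 hcard⟩).2
  have key : ∀ a : K, a * f = f * a → ∃ k : ℤ, ∃ c ∈ X, a = f ^ k * c := by
    intro a ha
    obtain ⟨⟨⟨_, k, rfl⟩, c⟩, h4⟩ := hsurj ⟨a, mem_centralizer_singleton_iff.2 ha⟩
    exact ⟨k, c, c.2, (congrArg Subtype.val h4).symm⟩
  obtain ⟨k, c, hcX, rfl⟩ := key a ha
  obtain ⟨l, d, hdX, rfl⟩ := key b hb
  have hcf : Commute c f := hX c hcX
  have hdf : Commute d f := hX d hdX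
  have h4 : f ^ k * c * (f ^ l * d) * (f ^ k * c)⁻¹ * (f ^ l * d)⁻¹ = c * d * c⁻¹ * d⁻¹ := by
    have e1 : Commute (f ^ k) c := (hcf.zpow_right k).symm
    have e2 : Commute (f ^ k) d := (hdf.zpow_right k).symm
    have e3 : Commute (f ^ l) c := (hcf.zpow_right l).symm
    have e4 : Commute (f ^ l) d := (hdf.zpow_right l).symm
    have e5 : Commute (f ^ k) (f ^ l) := (Commute.refl f).zpow_zpow k l
    have e6 : f ^ k * c * (f ^ l * d) = f ^ k * f ^ l * (c * d) := by
      rw [mul_assoc, ← mul_assoc c, ← e3.eq]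
      simp only [mul_assoc]
    have e7 : f ^ l * d * (f ^ k * c) = f ^ k * f ^ l * (d * c) := by
      rw [mul_assoc, ← mul_assoc d, ← e2.eq, e5.eq]
      simp only [mul_assoc]
    have e8 : Commute (f ^ k * f ^ l) (c * d) := (e1.mul_left e3).mul_right (e2.mul_left e4)
    have e9 : Commute (f ^ k * f ^ l) (d * c) := (e2.mul_left e4).mul_right (e1.mul_left e3)
    calc f ^ k * c * (f ^ l * d) * (f ^ k * c)⁻¹ * (f ^ l * d)⁻¹
        = (f ^ k * c * (f ^ l * d)) * (f ^ l * d * (f ^ k * c))⁻¹ := by group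
      _ = (f ^ k * f ^ l * (c * d)) * (f ^ k * f ^ l * (d * c))⁻¹ := by rw [e6, e7]
      _ = ((c * d) * (f ^ k * f ^ l)) * ((d * c) * (f ^ k * f ^ l))⁻¹ := by rw [e8.eq, e9.eq]
      _ = c * d * c⁻¹ * d⁻¹ := by group
  rw [h4] at hab
  have h5 : f ∈ X := by
    rw [← hab]
    exact X.mul_mem (X.mul_mem (X.mul_mem hcX hdX) (X.inv_mem hcX)) (X.inv_mem hdX)
  exact hf1 (by simpa only [zpow_one] using hX1 1 (by simpa only [zpow_one] using h5))

end abs

universe u

section baby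

variable {L : Type u} [Group L] (h : Spor.IsoB L)
include h

theorem finite_of_isoB : Finite L := Nat.finite_of_card_ne_zero (by rw [NotCT.Orders.b h]; norm_num)

/-- cubes of order three -/
theorem card_of_cube {v s : L} (hs : orderOf s = 3) (hv : v ^ 3 = s) :
    Nat.card ↥(centralizer ({s} : Set L)) ≤ 65303470080 := by
  have := finite_of_isoB h
  rcases H844.Ore.BThree.three_le h hs with h1 | h1
  · exact h1
  · exact absurd hv (H480.Ore.not_cube_of_fiB h1 v)

/-- all elements of order three -/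
theorem card_three {s : L} (hs : orderOf s = 3) :
    Nat.card ↥(centralizer ({s} : Set L)) ≤ 387370509926400 := by
  have := finite_of_isoB h
  rcases H844.Ore.BThree.three_le h hs with h1 | h1
  · exact h1.trans (by norm_num)
  · have h2 := H480.Ore.card_of_fiB h1
    rw [(S1696.result.2 : Nat.card Spor.Fi22 = 64561751654400)] at h2
    exact h2.trans (by norm_num)

/-- **The class of `x`.** -/
theorem x_conj_of {f d₁ d₂ y₀ v : L} (h1 : d₁ * d₁ = 1) (h2 : d₂ * d₂ = 1) (hf : f = d₁ * d₂) (hf3 : orderOf f = 3)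
    (hC : 129123503308800 ≤ Nat.card ↥(centralizer ({d₁} : Set L) ⊓ centralizer ({d₂} : Set L)))
    (h7 : ∀ s t : L, orderOf s = 3 → orderOf t = 7 → s * t = t * s → IsConj s f)
    (hy₀ : orderOf y₀ = 3) (hv : v ^ 3 = y₀) {u y x : L} (T : H819.U33.Trip u y x) : IsConj x y₀ := by
  have hfin := finite_of_isoB h
  have hf3' : f ^ 3 = 1 := by rw [← hf3, pow_orderOf_eq_one]
  have hf1 : f ≠ 1 := by
    rintro rfl
    rw [orderOf_one] at hf3
    norm_num at hf3
  have hcf := card_three h hf3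
  have hc3 : Nat.card ↥(centralizer ({f} : Set L)) ≤
      3 * Nat.card ↥(centralizer ({d₁} : Set L) ⊓ centralizer ({d₂} : Set L)) := by omega
  have : Fact (Nat.Prime 3) := ⟨Nat.prime_three⟩
  have : Fact (Nat.Prime 7) := ⟨by norm_num⟩
  have hx3 : orderOf x = 3 := orderOf_eq_prime T.x3 T.x1
  have key : ∀ s : L, orderOf s = 3 → ¬ IsConj s f → ¬ 7 ∣ Nat.card ↥(centralizer ({s} : Set L)) := by
    intro s hs hns h7s
    obtain ⟨t, ht⟩ := exists_prime_orderOf_dvd_card' 7 h7s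
    refine hns (h7 s t hs (by rw [Subgroup.orderOf_coe, ht]) ?_)
    exact (mem_centralizer_singleton_iff.1 t.2).symm
  have hle : 3 * 129123503308800 ≤ Nat.card ↥(centralizer ({f} : Set L)) := by
    refine le_trans (Nat.mul_le_mul_left 3 hC) ?_
    -- `⟨f⟩ × X → C(f)` is injective
    have hX : ∀ c ∈ (centralizer ({d₁} : Set L) ⊓ centralizer ({d₂} : Set L)), c * f = f * c := by
      intro c hc
      have k1 := mem_centralizer_singleton_iff.1 hc.1
      have k2 := mem_centralizer_singleton_iff.1 hc.2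
      rw [hf, ← mul_assoc, k1, mul_assoc, k2, mul_assoc]
    let φ : ↥(zpowers f) × ↥(centralizer ({d₁} : Set L) ⊓ centralizer ({d₂} : Set L)) → ↥(centralizer ({f} : Set L)) :=
      fun p => ⟨(p.1 : L) * p.2, by
        rw [mem_centralizer_singleton_iff]
        obtain ⟨k, hk⟩ := p.1.2
        have hk' : (p.1 : L) = f ^ k := hk.symm
        rw [hk', mul_assoc, hX _ p.2.2, ← mul_assoc, ← mul_assoc, (Commute.refl f).zpow_left k]⟩
    have hinj : Function.Injective φ := by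
      rintro ⟨⟨_, k, rfl⟩, c⟩ ⟨⟨_, l, rfl⟩, d⟩ hh
      have h4 : f ^ k * (c : L) = f ^ l * (d : L) := congrArg Subtype.val hh
      have h5 : f ^ (k - l) = (d : L) * (c : L)⁻¹ := by
        rw [zpow_sub, mul_inv_eq_iff_eq_mul]
        calc f ^ k = f ^ k * (c : L) * (c : L)⁻¹ := by rw [mul_inv_cancel_right]
          _ = f ^ l * (d : L) * (c : L)⁻¹ := by rw [h4]
          _ = (d : L) * (c : L)⁻¹ * f ^ l := by
            have h6 : Commute ((d : L) * (c : L)⁻¹) f :=
              (show Commute (d : L) f from hX _ d.2).mul_left (show Commute (c : L) f from hX _ c.2).inv_left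
            rw [mul_assoc, (h6.zpow_right l).eq]
      have h6 : f ^ (k - l) = 1 := by
        refine pow_eq_one h1 h2 hf hf3' (mem_centralizer_singleton_iff.1 (?_ : f ^ (k - l) ∈ centralizer ({d₁} : Set L)))
        rw [h5]
        exact mul_mem d.2.1 (inv_mem c.2.1)
      have h7 : f ^ k = f ^ l := by
        rw [zpow_sub, mul_inv_eq_one] at h6
        exact h6
      have h8 : (c : L) = d := by
        rw [h7] at h4
        exact mul_left_cancel h4
      exact Prod.ext (Subtype.ext h7) (Subtype.ext h8)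
    have h4 := Nat.card_le_card_of_injective φ hinj
    rw [Nat.card_prod, Nat.card_zpowers, hf3] at h4
    exact h4
  -- `x` is not conjugate to `f`
  have hxf : ¬ IsConj x f := by
    intro hc
    obtain ⟨c, hc⟩ := isConj_iff.1 hc
    set q : L := u⁻¹ * x⁻¹ * u⁻¹ ^ 3 * x⁻¹ * u⁻¹ with hq
    have k1 : x = y⁻¹ * q⁻¹ * y⁻¹⁻¹ * q⁻¹⁻¹ := by
      have := T.yq
      rw [← hq] at this
      calc x = y⁻¹ * (y * x) := by group
        _ = y⁻¹ * (q⁻¹ * y * q) := by rw [this]
        _ = _ := by group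
    have k2 : Commute y x := T.xy.symm
    have k3 : Commute q x := T.qx
    refine not_comm h1 h2 hf hf3' hf1 hc3 (a := c * y⁻¹ * c⁻¹) (b := c * q⁻¹ * c⁻¹) ?_ ?_ ?_
    · rw [← hc]
      have := k2.inv_left.eq
      calc c * y⁻¹ * c⁻¹ * (c * x * c⁻¹) = c * (y⁻¹ * x) * c⁻¹ := by group
        _ = c * (x * y⁻¹) * c⁻¹ := by rw [this]
        _ = _ := by group
    · rw [← hc]
      have := k3.inv_left.eq
      calc c * q⁻¹ * c⁻¹ * (c * x * c⁻¹) = c * (q⁻¹ * x) * c⁻¹ := by group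
        _ = c * (x * q⁻¹) * c⁻¹ := by rw [this]
        _ = _ := by group
    · rw [← hc]
      calc c * y⁻¹ * c⁻¹ * (c * q⁻¹ * c⁻¹) * (c * y⁻¹ * c⁻¹)⁻¹ * (c * q⁻¹ * c⁻¹)⁻¹
          = c * (y⁻¹ * q⁻¹ * y⁻¹⁻¹ * q⁻¹⁻¹) * c⁻¹ := by group
        _ = c * x * c⁻¹ := by rw [← k1]
  -- `y₀` is not conjugate to `f`
  have hyf : ¬ IsConj y₀ f := by
    intro hc
    have h4 := card_of_cube h hy₀ hv
    rw [H829.Pw.card_cent_of_isConj hc] at hle
    omega
  exact H573.U33.Conj.conj_three h hx3 hy₀ (key x hx3 hxf) (key y₀ hy₀ hyf)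

end baby

end Cfsg.Agent.H186.U33
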