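import Cfsg.Agent.H186.U33.XAbs
import Cfsg.Agent.H995.U33.Pair

/-!
# S5525, piece E1: the elements `f₀ = g wf`, `y₀ = g wy` (helper186)

* `nine` : `y₀` is a cube;
* `card_y_le` : `|C(y₀)| ≤ 65303470080`, `card_f` : `|C(f₀)| = 387370509926400`, `not_conj` : `f₀`, `y₀` are not conjugate;
* `x_conj_of_seven` : `Trip u y x` implies `x ∼ y₀`, from the conjugacy of the elements of order 3 commuting with elements of order 7.
-/

set_option autoImplicit false
set_option maxRecDepth 100000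

namespace Cfsg.Agent.H186.U33

open Subgroup Cfsg Cfsg.Agent.H819.U33 Cfsg.Agent.BabyM.Conc

/-- `c` -/
def wc9 : List Ltr :=
  [.taui, .Z2, .Z7, .Z9, .p7, .xii, .p5, .h, .p6, .xii, .p4, .X6, .X5, .X2, .X1, .Z5, .y5, .y7, .p7, .xii, .p5, .h,
   .p6, .xii, .p4, .X6, .X5, .X2, .X1, .Z5, .y5, .y7, .p7, .xii, .p5, .h, .p6, .xii, .p4, .X6, .X5, .X2, .X1, .tau,
   .p5, .y5, .p6, .taui, .X2, .X4, .X5, .X7, .X9, .taui, .Z5, .y5, .y7, .taui, .Z2, .p8, .h, .p5, .hi, .p6, .hi, .p3,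
   .Z0, .Z4, .Z7, .p4, .y4, .y9, .p7, .y6, .y4, .Z4, .X1, .X2, .X5, .X6, .p7, .xi, .p5, .hi, .p6, .xi, .p4, .y7, .y5,
   .Z5, .X1, .X2, .X5, .X6, .p7, .xi, .p5, .hi, .p6, .xi, .p4, .Z0, .Z4, .Z7, .p4, .y4, .y9, .p7, .p5, .y5, .p6, .Z6,
   .X4, .X6, .Z4, .Z5, .z, .Z0, .Z4, .Z7, .p4, .y4, .y9, .p7, .p7, .xii, .p5, .h, .p6, .xii, .p4, .X6, .X5, .X2, .X1,
   .Z10, .y7, .y5, .Z5, .tau]

/-- an element of order 9, `e³ = c⁻¹ y₀ c` -/
def we9 : List Ltr :=
  [.p9, .xi, .p2, .y4, .p4, .hi, .p5, .h, .p3, .h, .p4, .y10, .p2, .xii, .p, .y2, .p5, .xi, .p5, .xii, .y10, .y3,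
   .y5, .xi, .p6, .xii, .p8, .y1, .y6, .z, .Z5, .Z0, .X9, .X7, .X6, .X5]

theorem eq9 : g (wc9 ++ (we9 ++ (we9 ++ we9))) = g (wy ++ wc9) := eq_of (by decide +kernel)

theorem nine : (g wc9 * g we9 * (g wc9)⁻¹) ^ 3 = g wy := by
  have h := eq9
  rw [g_append, g_append, g_append, g_append] at h
  calc (g wc9 * g we9 * (g wc9)⁻¹) ^ 3 = (g wc9 * (g we9 * (g we9 * g we9))) * (g wc9)⁻¹ := by
        rw [pow_succ, pow_two]; group
    _ = g wy := by rw [h, mul_inv_cancel_right]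

theorem isoB : Spor.IsoB G := ⟨BM.KHAll.iso.symm⟩

theorem f_order : orderOf (g wf) = 3 := by
  have : Fact (Nat.Prime 3) := ⟨Nat.prime_three⟩
  exact orderOf_eq_prime f_three f_ne_one

theorem y_three : g wy ^ 3 = 1 := by
  rw [show wy = wf ++ [.tau] from rfl, g_append]
  have h1 : Commute (g wf) (g [.tau]) := tau_f.symm
  have h2 : g [Ltr.tau] ^ 3 = 1 := by
    rw [← g_pw, ← g_nil]
    exact eq_of (by decide +kernel)
  rw [h1.mul_pow, f_three, h2, one_mul]

theorem y_ne_one : g wy ≠ 1 := by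
  rw [← g_nil]
  exact ne_of (by decide +kernel)

theorem y_order : orderOf (g wy) = 3 := by
  have : Fact (Nat.Prime 3) := ⟨Nat.prime_three⟩
  exact orderOf_eq_prime y_three y_ne_one

theorem card_y_le : Nat.card ↥(centralizer ({g wy} : Set G)) ≤ 65303470080 := card_of_cube isoB y_order nine

theorem card_f_le : Nat.card ↥(centralizer ({g wf} : Set G)) ≤ 387370509926400 := card_three isoB f_order

theorem XX_eq : XX = centralizer ({g wd1} : Set G) ⊓ centralizer ({g wd2} : Set G) := by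
  ext c
  unfold XX
  simp only [mem_inf, mem_centralizer_iff, Set.mem_insert_iff, Set.mem_singleton_iff, forall_eq_or_imp, forall_eq]

theorem XX_le : XX ≤ centralizer ({g wf} : Set G) := by
  rw [XX_eq]
  intro c hc
  have k1 := mem_centralizer_singleton_iff.1 hc.1
  have k2 := mem_centralizer_singleton_iff.1 hc.2
  rw [mem_centralizer_singleton_iff, ← d1_mul_d2, ← mul_assoc, k1, mul_assoc, k2, mul_assoc]

/-- `f₀` and `y₀` are not conjugate. -/
theorem not_conj : ¬ IsConj (g wf) (g wy) := by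
  intro hc
  have := finite_of_isoB isoB
  have h1 := card_y_le
  rw [H829.Pw.card_cent_of_isConj hc] at h1
  have h2 : Nat.card XX ≤ Nat.card ↥(centralizer ({g wf} : Set G)) := Nat.card_le_card_of_injective _ (inclusion_injective XX_le)
  rw [card_XX] at h2
  omega

/-- **Piece E** from the seven-local box. -/
theorem x_conj_of_seven (h7 : ∀ s t : G, orderOf s = 3 → orderOf t = 7 → s * t = t * s → IsConj s (g wf))
    {u y x : G} (T : Trip u y x) : IsConj x (g wy) := by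
  refine x_conj_of isoB d1_sq d2_sq d1_mul_d2.symm f_order ?_ h7 y_order nine T
  rw [← XX_eq, card_XX]

end Cfsg.Agent.H186.U33
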